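import Groth.Agent.L06.EtaleSplit.Core

/-! Assembly of the étale base change splitting an integral algebra at a prime. -/

set_option autoImplicit false
set_option linter.style.haveILetI false

universe u

open scoped TensorProduct

namespace Groth.L06.EtaleSplit

theorem exists_gamma {R R₀ R' R'' S : Type u} [CommRing R] [CommRing R₀] [CommRing R']
    [CommRing R''] [CommRing S] [Algebra R R₀] [Algebra R₀ R'] [Algebra R R'] [Algebra R' R'']
    [Algebra R R''] [IsScalarTower R R₀ R'] [IsScalarTower R R' R''] [Algebra R S]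
    {T : Type u} [CommRing T] [Algebra R T] (ι : T →ₐ[R] S) :
    ∃ Γ : R' ⊗[R₀] (R₀ ⊗[R] T) →+* R'' ⊗[R] S,
      (∀ a : R', Γ (algebraMap R' (R' ⊗[R₀] (R₀ ⊗[R] T)) a) =
        algebraMap R'' (R'' ⊗[R] S) (algebraMap R' R'' a)) ∧
      ∀ t : T, Γ (1 ⊗ₜ (1 ⊗ₜ t)) = (1 : R'') ⊗ₜ[R] ι t := by
  let gR : R' →ₐ[R] R'' := IsScalarTower.toAlgHom R R' R''
  let e := Algebra.TensorProduct.cancelBaseChange R R₀ R' R' T
  refine ⟨(Algebra.TensorProduct.map gR ι).toRingHom.comp e.toRingHom, fun a => ?_, fun t => ?_⟩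
  · show Algebra.TensorProduct.map gR ι (e (algebraMap R' _ a)) = _
    rw [AlgEquiv.commutes, Algebra.TensorProduct.algebraMap_apply, Algebra.TensorProduct.map_tmul,
      map_one, Algebra.TensorProduct.algebraMap_apply]
    rfl
  · show Algebra.TensorProduct.map gR ι (e (1 ⊗ₜ (1 ⊗ₜ t))) = _
    rw [Algebra.TensorProduct.cancelBaseChange_tmul, one_smul, Algebra.TensorProduct.map_tmul,
      map_one]

theorem include_algebraMap {R R₀ R' : Type u} [CommRing R] [CommRing R₀] [CommRing R']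
    [Algebra R R₀] [Algebra R₀ R'] {T : Type u} [CommRing T] [Algebra R T] (r : R) :
    ((1 : R') ⊗ₜ[R₀] ((1 : R₀) ⊗ₜ[R] algebraMap R T r)) =
      algebraMap R' (R' ⊗[R₀] (R₀ ⊗[R] T)) (algebraMap R₀ R' (algebraMap R R₀ r)) := by
  have h2 : ((1 : R₀) ⊗ₜ[R] algebraMap R T r) = (algebraMap R R₀ r) • (1 : R₀ ⊗[R] T) := by
    rw [Algebra.TensorProduct.one_def, TensorProduct.smul_tmul', smul_eq_mul, mul_one,
      Algebra.algebraMap_eq_smul_one, TensorProduct.tmul_smul, TensorProduct.smul_tmul',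
      ← Algebra.algebraMap_eq_smul_one]
  rw [h2, TensorProduct.tmul_smul, TensorProduct.smul_tmul', ← Algebra.algebraMap_eq_smul_one,
    Algebra.TensorProduct.algebraMap_apply, Algebra.algebraMap_self_apply]

set_option maxHeartbeats 1000000 in
/-- Étale base change splitting an integral algebra at a prime into pieces with one prime each. -/
theorem exists_split {R S : Type u} [CommRing R] [CommRing S] [Algebra R S] [Algebra.IsIntegral R S]
    (p : Ideal R) [p.IsPrime]
    (hfin : {q : PrimeSpectrum S | q.asIdeal.comap (algebraMap R S) = p}.Finite)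
    (hsep : ∀ (q : PrimeSpectrum S) (hq : q.asIdeal.comap (algebraMap R S) = p),
      letI := (Ideal.ResidueField.map p q.asIdeal (algebraMap R S) hq.symm).toAlgebra
      Module.Finite p.ResidueField (separableClosure p.ResidueField q.asIdeal.ResidueField)) :
    ∃ (R' : Type u) (_ : CommRing R') (_ : Algebra R R') (p' : PrimeSpectrum R'),
      Algebra.Etale R R' ∧ p'.asIdeal.comap (algebraMap R R') = p ∧
      ∃ (m : ℕ) (A : Fin m → Type u) (_ : ∀ j, CommRing (A j)) (_ : ∀ j, Algebra R' (A j))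
        (_ : R' ⊗[R] S ≃ₐ[R'] (Π j, A j)),
        ∀ j, Algebra.IsIntegral R' (A j) ∧ ∃ (r : PrimeSpectrum (A j))
            (hr : r.asIdeal.comap (algebraMap R' (A j)) = p'.asIdeal),
          (∀ r' : PrimeSpectrum (A j), r'.asIdeal.comap (algebraMap R' (A j)) = p'.asIdeal → r' = r) ∧
          letI := (Ideal.ResidueField.map p'.asIdeal r.asIdeal (algebraMap R' (A j)) hr.symm).toAlgebra
          IsPurelyInseparable p'.asIdeal.ResidueField r.asIdeal.ResidueField := by
  classical
  haveI : ExpChar p.ResidueField (ringExpChar p.ResidueField) := ringExpChar.expChar _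
  haveI : ExpChar (AlgebraicClosure p.ResidueField) (ringExpChar p.ResidueField) :=
    expChar_of_injective_ringHom (algebraMap p.ResidueField _).injective _
  obtain ⟨T, hT, E, hE, hctrl⟩ := exists_control p hfin hsep (ringExpChar p.ResidueField)
  obtain ⟨R₀, _, _, hR₀, ψ₀, hE₀⟩ := exists_etale_realize p E hE
  haveI := hR₀; haveI := hT
  let P₀ : Ideal R₀ := RingHom.ker ψ₀.toRingHom
  haveI : P₀.IsPrime := RingHom.ker_isPrime _
  obtain ⟨R', _, _, hR', P, _, hlies, n, e, he, P', _, hP'lies, hbij, hP', H⟩ :=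
    Algebra.exists_etale_completeOrthogonalIdempotents_forall_liesOver_eq (S := R₀ ⊗[R] T) P₀
  haveI := hR'
  obtain ⟨ψ', hψ'₀, hψ'P⟩ : ∃ ψ' : R' →+* AlgebraicClosure p.ResidueField,
      (∀ a, ψ' (algebraMap R₀ R' a) = ψ₀ a) ∧ RingHom.ker ψ' = P := by
    let l₀ : P₀.ResidueField →+* AlgebraicClosure p.ResidueField :=
      Ideal.ResidueField.lift P₀ ψ₀.toRingHom le_rfl
        (fun x hx => isUnit_iff_ne_zero.mpr fun h => hx (RingHom.mem_ker.mpr h))
    let eκ : P₀.ResidueField ≃+* P.ResidueField := RingEquiv.ofBijective _ hbij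
    refine ⟨(l₀.comp eκ.symm.toRingHom).comp (algebraMap R' P.ResidueField), fun a => ?_, ?_⟩
    · have h1 : eκ (algebraMap R₀ P₀.ResidueField a) = algebraMap R' P.ResidueField (algebraMap R₀ R' a) :=
        Ideal.ResidueField.map_algebraMap _ _ _ _ a
      show l₀ (eκ.symm (algebraMap R' P.ResidueField (algebraMap R₀ R' a))) = ψ₀ a
      rw [← h1, RingEquiv.symm_apply_apply]
      exact Ideal.ResidueField.lift_algebraMap P₀ ψ₀.toRingHom le_rfl
        (fun x hx => isUnit_iff_ne_zero.mpr fun h => hx (RingHom.mem_ker.mpr h)) a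
    · rw [← RingHom.comap_ker, (RingHom.injective_iff_ker_eq_bot _).mp
        (l₀.comp eκ.symm.toRingHom).injective, ← RingHom.ker_eq_comap_bot,
        Ideal.ker_algebraMap_residueField]
  obtain ⟨f, hf, hfP⟩ := exists_kill P (e (Fin.last n)) (he.idem _) fun Q hQ hQP => (H Q hQ hQP).1
  letI : Algebra R R' := ((algebraMap R₀ R').comp (algebraMap R R₀)).toAlgebra
  haveI : IsScalarTower R R₀ R' := .of_algebraMap_eq fun _ => rfl
  haveI : Algebra.Etale R R' := Algebra.Etale.comp R R₀ R'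
  haveI : Algebra.Etale R' (Localization.Away f) := Algebra.Etale.of_isLocalizationAway f
  haveI : Algebra.Etale R (Localization.Away f) := Algebra.Etale.comp R R' (Localization.Away f)
  obtain ⟨Γ, hΓ1, hΓ2⟩ := exists_gamma (R₀ := R₀) (R' := R') (R'' := Localization.Away f) T.val
  have hlast : Γ (e (Fin.last n)) = 0 := by
    have h0 : Γ (algebraMap R' _ f * e (Fin.last n)) = 0 := by
      rw [← Algebra.smul_def, hf, map_zero]
    rw [map_mul, hΓ1] at h0
    exact ((IsLocalization.Away.algebraMap_isUnit f).map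
      (algebraMap (Localization.Away f) (Localization.Away f ⊗[R] S))).mul_right_eq_zero.mp h0
  let e' : Fin n → Localization.Away f ⊗[R] S := fun j => Γ (e j.castSucc)
  have he' : CompleteOrthogonalIdempotents e' := by
    have h := he.map Γ
    refine ⟨⟨fun j => h.idem _, fun i j hij => h.ortho fun hh => hij (Fin.castSucc_injective _ hh)⟩, ?_⟩
    have h2 := h.complete
    rw [Fin.sum_univ_castSucc] at h2
    simp only [Function.comp_apply, hlast, add_zero] at h2
    exact h2
  have hf0 : ψ' f ≠ 0 := fun h => hfP (hψ'P ▸ RingHom.mem_ker.mpr h)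
  let ψr : Localization.Away f →+* AlgebraicClosure p.ResidueField :=
    IsLocalization.Away.lift f (g := ψ') (isUnit_iff_ne_zero.mpr hf0)
  have hψr1 : ∀ a, ψr (algebraMap R' _ a) = ψ' a := fun a => IsLocalization.Away.lift_eq _ _ a
  have hψ₀R : ∀ r, ψ' (algebraMap R₀ R' (algebraMap R R₀ r)) =
      algebraMap R (AlgebraicClosure p.ResidueField) r := fun r => by rw [hψ'₀, ψ₀.commutes]
  have hψrR : ∀ r, ψr (algebraMap R _ r) = algebraMap R (AlgebraicClosure p.ResidueField) r := fun r => by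
    rw [IsScalarTower.algebraMap_apply R R' (Localization.Away f), hψr1]
    exact hψ₀R r
  let ψ'' : Localization.Away f →ₐ[R] AlgebraicClosure p.ResidueField :=
    { toRingHom := ψr, commutes' := hψrR }
  let F : Subfield (AlgebraicClosure p.ResidueField) := Subfield.closure (Set.range ψr)
  obtain ⟨hpow, huniq⟩ := hctrl F
    (by rintro _ ⟨r, rfl⟩; exact Subfield.subset_closure ⟨_, hψrR r⟩)
    (fun x hx => by
      obtain ⟨a, rfl⟩ := hE₀ hx
      exact Subfield.subset_closure
        ⟨algebraMap R' _ (algebraMap R₀ R' a), (hψr1 _).trans (hψ'₀ a)⟩)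
  have hF' : F ≤ Subfield.closure (Set.range ψ') := by
    refine Subfield.closure_le.mpr ?_
    rintro _ ⟨x, rfl⟩
    obtain ⟨⟨a, s⟩, hs⟩ := IsLocalization.surj (Submonoid.powers f) x
    obtain ⟨m, hm⟩ := s.2
    have hs0 : ψr (algebraMap R' _ (s : R')) ≠ 0 := by
      rw [hψr1, ← hm, map_pow]
      exact pow_ne_zero _ hf0
    have hx : ψr x = ψ' a / ψ' s := by
      rw [← hψr1, ← hψr1]
      exact eq_div_of_mul_eq hs0 (by rw [← map_mul]; exact congrArg ψr hs)
    rw [hx]
    exact div_mem (Subfield.subset_closure ⟨a, rfl⟩) (Subfield.subset_closure ⟨_, rfl⟩)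
  refine ⟨Localization.Away f, inferInstance, inferInstance,
    ⟨RingHom.ker ψr, RingHom.ker_isPrime _⟩, inferInstance, ?_, n,
    fun j => (Localization.Away f ⊗[R] S) ⧸ Ideal.span {1 - e' j}, inferInstance, inferInstance,
    AlgEquiv.ofBijective
      (AlgHom.pi fun j => Ideal.Quotient.mkₐ (Localization.Away f) (Ideal.span {1 - e' j}))
      he'.bijective_pi, fun j => ⟨inferInstance, ?_⟩⟩
  · show Ideal.comap (algebraMap R (Localization.Away f)) (RingHom.ker ψr) = p
    rw [RingHom.comap_ker, show ψr.comp (algebraMap R _) =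
      algebraMap R (AlgebraicClosure p.ResidueField) from RingHom.ext hψrR]
    exact ker_ofId_residueField p
  haveI : (P' j).IsPrime := inferInstance
  obtain ⟨Φ, hΦ1, hΦ2⟩ := exists_marked T ((algebraMap R₀ R').comp (algebraMap R R₀))
    ((Algebra.TensorProduct.includeRight :
      R₀ ⊗[R] T →ₐ[R₀] R' ⊗[R₀] (R₀ ⊗[R] T)).toRingHom.comp
      (Algebra.TensorProduct.includeRight : T →ₐ[R] R₀ ⊗[R] T).toRingHom)
    (fun r => include_algebraMap r)
    (fun α β h1 h2 => ringHom_ext_iterated α β (fun a => RingHom.congr_fun h1 a)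
      fun t => RingHom.congr_fun h2 t)
    Γ hΓ1 hΓ2 ψ' ψ'' hψr1 hψ₀R (P' j) (((hP'lies j).over).symm.trans hψ'P.symm)
  refine piece (ringExpChar p.ResidueField) ψr (e' j) (he'.idem j) Φ hΦ1 ?_ ?_
    (pow_mem_tensor (ringExpChar p.ResidueField) ψ'' F Subfield.subset_closure hpow Φ hΦ1) _ rfl
  · exact fun h0 => hP' j (hΦ2.le (RingHom.mem_ker.mpr h0))
  intro Ψ hΨ hj
  haveI : (RingHom.ker (Ψ.comp Γ)).IsPrime := RingHom.ker_isPrime _
  haveI : (RingHom.ker (Ψ.comp Γ)).LiesOver P := ⟨by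
    rw [Ideal.under_def, RingHom.comap_ker, ← hψ'P]
    congr 1
    refine RingHom.ext fun a => ?_
    rw [← hψr1 a, ← hΨ]
    show Ψ (algebraMap _ _ (algebraMap R' _ a)) = Ψ (Γ (algebraMap R' _ a))
    rw [hΓ1]⟩
  have hQ : RingHom.ker (Ψ.comp Γ) = P' j :=
    (H _ inferInstance inferInstance).2 j fun hmem => hj (RingHom.mem_ker.mp hmem)
  exact eq_marked T (ringExpChar p.ResidueField) _ Γ hΓ1 hΓ2 ψ' ψ'' hψr1 F Subfield.subset_closure
    hF' hpow huniq Φ Ψ hΦ1 hΨ (hQ.trans hΦ2.symm)

end Groth.L06.EtaleSplit
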