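import Groth.Agent.L06.EtaleSplit.Split

/-! The pieces of an étale-locally split integral algebra. -/

set_option autoImplicit false
set_option linter.style.haveILetI false

set_option backward.isDefEq.respectTransparency false

universe u

open scoped TensorProduct

namespace Groth.L06.EtaleSplit

/-- A finite algebra part avoiding a prime is killed by an element outside the prime. -/
theorem exists_kill {A B : Type u} [CommRing A] [CommRing B] [Algebra A B] [Algebra.IsIntegral A B]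
    (P : Ideal A) [P.IsPrime] (e : B) (he : IsIdempotentElem e)
    (h : ∀ Q : Ideal B, Q.IsPrime → Q.LiesOver P → e ∈ Q) : ∃ f : A, f • e = 0 ∧ f ∉ P := by
  by_contra hcon
  push Not at hcon
  let I : Ideal B := Ideal.span {1 - e}
  have hIP : I.comap (algebraMap A B) ≤ P := by
    intro a ha
    refine hcon a ?_
    obtain ⟨w, hw⟩ := Ideal.mem_span_singleton'.mp (Ideal.mem_comap.mp ha)
    rw [Algebra.smul_def, ← hw, mul_assoc, he.one_sub_mul_self, mul_zero]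
  obtain ⟨Q, hQI, hQp, hQ⟩ := Ideal.exists_ideal_over_prime_of_isIntegral P I hIP
  have h1 : (1 : B) ∈ Q := by
    have := Q.add_mem (hQI (Ideal.subset_span rfl)) (h Q hQp ⟨hQ.symm⟩)
    rwa [sub_add_cancel] at this
  exact hQp.ne_top (Q.eq_top_iff_one.mpr h1)

/-- A piece cut out by an idempotent with a unique point over the given one. -/
theorem piece {A U Ω : Type u} [CommRing A] [CommRing U] [Algebra A U] [Field Ω] [IsAlgClosed Ω]
    [Algebra.IsIntegral A U] (c : ℕ) [ExpChar Ω c] (ψ : A →+* Ω) (e : U) (he : IsIdempotentElem e)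
    (Φ : U →+* Ω) (hΦ : Φ.comp (algebraMap A U) = ψ) (hne : Φ e ≠ 0)
    (huniq : ∀ Ψ : U →+* Ω, Ψ.comp (algebraMap A U) = ψ → Ψ e ≠ 0 → Ψ = Φ)
    (hpow : ∀ x, ∃ n, Φ x ^ c ^ n ∈ Subfield.closure (Set.range ψ))
    (p' : PrimeSpectrum A) (hp : RingHom.ker ψ = p'.asIdeal) :
    ∃ (r : PrimeSpectrum (U ⧸ Ideal.span {1 - e}))
      (hr : r.asIdeal.comap (algebraMap A (U ⧸ Ideal.span {1 - e})) = p'.asIdeal),
      (∀ r' : PrimeSpectrum (U ⧸ Ideal.span {1 - e}),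
        r'.asIdeal.comap (algebraMap A (U ⧸ Ideal.span {1 - e})) = p'.asIdeal → r' = r) ∧
      letI := (Ideal.ResidueField.map p'.asIdeal r.asIdeal
        (algebraMap A (U ⧸ Ideal.span {1 - e})) hr.symm).toAlgebra
      IsPurelyInseparable p'.asIdeal.ResidueField r.asIdeal.ResidueField := by
  have hje : Φ e = 1 := by
    have hid : Φ e * Φ e = Φ e * 1 := by rw [← map_mul, he.eq, mul_one]
    exact mul_left_cancel₀ hne hid
  have hI : Ideal.span {1 - e} ≤ RingHom.ker Φ := (Ideal.span_singleton_le_iff_mem _).mpr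
    (RingHom.mem_ker.mpr (by rw [map_sub, map_one, hje, sub_self]))
  let Φb : U ⧸ Ideal.span {1 - e} →+* Ω := Ideal.Quotient.lift _ Φ fun x hx => hI hx
  have hΦb : Φb.comp (algebraMap A _) = ψ := hΦ
  have hbar : ∀ (Ψ : U ⧸ Ideal.span {1 - e} →+* Ω), Ψ.comp (algebraMap A _) = ψ → Ψ = Φb := by
    intro Ψ hΨ
    refine Ideal.Quotient.ringHom_ext ((huniq (Ψ.comp (Ideal.Quotient.mk _)) hΨ ?_).trans ?_)
    · have h1 : Ideal.Quotient.mk (Ideal.span {1 - e}) (1 - e) = 0 :=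
        Ideal.Quotient.eq_zero_iff_mem.mpr (Ideal.subset_span rfl)
      rw [map_sub, map_one, sub_eq_zero] at h1
      show Ψ (Ideal.Quotient.mk _ e) ≠ 0
      rw [← h1, map_one]
      exact one_ne_zero
    · exact RingHom.ext fun x => rfl
  refine ⟨⟨RingHom.ker Φb, RingHom.ker_isPrime _⟩, ?_, fun r' hr' => ?_, ?_⟩
  · show Ideal.comap (algebraMap A _) (RingHom.ker Φb) = p'.asIdeal
    rw [RingHom.comap_ker, hΦb, hp]
  · obtain ⟨Ψ, hΨ, hkΨ⟩ := exists_extend ψ r'.asIdeal (hr'.trans hp.symm)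
    exact PrimeSpectrum.ext (by rw [← hkΨ, hbar Ψ hΨ])
  · haveI := RingHom.ker_isPrime Φb
    refine isPurelyInseparable_residueField c ψ Φb hΦb ?_ p'.asIdeal (RingHom.ker Φb) hp rfl _
    intro b
    obtain ⟨x, rfl⟩ := Ideal.Quotient.mk_surjective b
    exact hpow x

variable {R S R' R'' W Ω : Type u} [CommRing R] [CommRing S] [CommRing R'] [CommRing W]
  [CommRing R''] [Field Ω] [Algebra R S] [Algebra R R''] [Algebra R' W]
  [Algebra R' R''] [Algebra R Ω] (T : Subalgebra R S) (ρ : R →+* R')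

theorem exists_marked [IsAlgClosed Ω] [Algebra.IsIntegral R S] [Algebra.IsIntegral R' W]
    (ι₂ : T →+* W) (hι₂ : ∀ r, ι₂ (algebraMap R T r) = algebraMap R' W (ρ r))
    (hext : ∀ α β : W →+* Ω, α.comp (algebraMap R' W) = β.comp (algebraMap R' W) →
      α.comp ι₂ = β.comp ι₂ → α = β)
    (Γ : W →+* R'' ⊗[R] S)
    (hΓ1 : ∀ a : R', Γ (algebraMap R' W a) = algebraMap R'' (R'' ⊗[R] S) (algebraMap R' R'' a))
    (hΓ2 : ∀ t : T, Γ (ι₂ t) = (1 : R'') ⊗ₜ[R] (t : S))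
    (ψ' : R' →+* Ω) (ψ'' : R'' →ₐ[R] Ω) (hψ : ∀ a, ψ'' (algebraMap R' R'' a) = ψ' a)
    (hψ₀ : ∀ r, ψ' (ρ r) = algebraMap R Ω r)
    (Q : Ideal W) [Q.IsPrime] (hQ : Q.comap (algebraMap R' W) = RingHom.ker ψ') :
    ∃ Φ : R'' ⊗[R] S →+* Ω, Φ.comp (algebraMap R'' _) = ψ''.toRingHom ∧
      RingHom.ker (Φ.comp Γ) = Q := by
  obtain ⟨φ, hφ, hkφ⟩ := exists_extend ψ' Q hQ
  let τ : T →+* Ω := φ.comp ι₂
  haveI : Algebra.IsIntegral T S := Algebra.IsIntegral.tower_top (R := R)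
  haveI := RingHom.ker_isPrime τ
  obtain ⟨q, -, hqp, hq⟩ := Ideal.exists_ideal_over_prime_of_isIntegral (RingHom.ker τ) (⊥ : Ideal S)
    (fun x hx => by
      have hx0 : x = 0 := Subtype.ext (Ideal.mem_bot.mp (Ideal.mem_comap.mp hx))
      rw [hx0]; exact zero_mem _)
  haveI := hqp
  obtain ⟨σ, hσ, -⟩ := exists_extend τ q hq
  have hσR : ∀ r, σ (algebraMap R S r) = algebraMap R Ω r := by
    intro r
    have h1 : σ (algebraMap R S r) = τ (algebraMap R T r) := RingHom.congr_fun hσ (algebraMap R T r)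
    rw [h1]
    show φ (ι₂ (algebraMap R T r)) = _
    rw [hι₂, ← RingHom.comp_apply φ, hφ, hψ₀]
  let σA : S →ₐ[R] Ω := { toRingHom := σ, commutes' := hσR }
  refine ⟨(Algebra.TensorProduct.lift ψ'' σA fun _ _ => Commute.all _ _).toRingHom, ?_, ?_⟩
  · refine RingHom.ext fun a => ?_
    show Algebra.TensorProduct.lift ψ'' σA (fun _ _ => Commute.all _ _) (a ⊗ₜ[R] (1 : S)) = ψ'' a
    rw [Algebra.TensorProduct.lift_tmul, map_one, mul_one]
  · rw [← hkφ]
    congr 1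
    refine hext _ _ (RingHom.ext fun a => ?_) (RingHom.ext fun t => ?_)
    · show Algebra.TensorProduct.lift ψ'' σA (fun _ _ => Commute.all _ _) (Γ (algebraMap R' W a)) = _
      rw [hΓ1, Algebra.TensorProduct.algebraMap_apply, Algebra.TensorProduct.lift_tmul, map_one,
        mul_one, Algebra.algebraMap_self_apply]
      exact (hψ a).trans (RingHom.congr_fun hφ a).symm
    · show Algebra.TensorProduct.lift ψ'' σA (fun _ _ => Commute.all _ _) (Γ (ι₂ t)) = _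
      rw [hΓ2, Algebra.TensorProduct.lift_tmul, map_one, one_mul]
      exact RingHom.congr_fun hσ t

/-- The map on `S` underlying a map of the base change. -/
noncomputable def onRight (Φ : R'' ⊗[R] S →+* Ω)
    (h : ∀ r, Φ (algebraMap R'' _ (algebraMap R R'' r)) = algebraMap R Ω r) : S →ₐ[R] Ω where
  toRingHom := Φ.comp (Algebra.TensorProduct.includeRight : S →ₐ[R] R'' ⊗[R] S).toRingHom
  commutes' r := by
    show Φ ((1 : R'') ⊗ₜ[R] algebraMap R S r) = _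
    rw [← h r, Algebra.TensorProduct.algebraMap_apply, Algebra.algebraMap_eq_smul_one,
      TensorProduct.tmul_smul, TensorProduct.smul_tmul', ← Algebra.algebraMap_eq_smul_one]
    rfl

theorem pow_mem_tensor (c : ℕ) [ExpChar Ω c] (ψ'' : R'' →ₐ[R] Ω) (F : Subfield Ω)
    (hF : Set.range ψ'' ⊆ F) (hpow : ∀ σ : S →ₐ[R] Ω, ∀ s, ∃ n, σ s ^ c ^ n ∈ F)
    (Φ : R'' ⊗[R] S →+* Ω) (hΦ : Φ.comp (algebraMap R'' _) = ψ''.toRingHom) :
    ∀ x, ∃ n, Φ x ^ c ^ n ∈ F := by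
  refine pow_mem_of_generators c F Φ _ (tensor_generators R'' S) ?_
  rintro g (⟨a, rfl⟩ | ⟨s, rfl⟩)
  · exact ⟨0, by rw [pow_zero, pow_one]; exact hF ⟨a, (RingHom.congr_fun hΦ a).symm⟩⟩
  · exact hpow (onRight Φ fun r => (RingHom.congr_fun hΦ _).trans (ψ''.commutes r)) s

theorem eq_marked (c : ℕ) [ExpChar Ω c] (ι₂ : T → W)
    (Γ : W →+* R'' ⊗[R] S)
    (hΓ1 : ∀ a : R', Γ (algebraMap R' W a) = algebraMap R'' (R'' ⊗[R] S) (algebraMap R' R'' a))
    (hΓ2 : ∀ t : T, Γ (ι₂ t) = (1 : R'') ⊗ₜ[R] (t : S))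
    (ψ' : R' →+* Ω) (ψ'' : R'' →ₐ[R] Ω) (hψ : ∀ a, ψ'' (algebraMap R' R'' a) = ψ' a)
    (F : Subfield Ω) (hF : Set.range ψ'' ⊆ F) (hF' : F ≤ Subfield.closure (Set.range ψ'))
    (hpow : ∀ σ : S →ₐ[R] Ω, ∀ s, ∃ n, σ s ^ c ^ n ∈ F)
    (huniq : ∀ σ σ' : S →ₐ[R] Ω, (∀ t ∈ T, σ t = σ' t) → σ = σ')
    (Φ Ψ : R'' ⊗[R] S →+* Ω) (hΦ : Φ.comp (algebraMap R'' _) = ψ''.toRingHom)
    (hΨ : Ψ.comp (algebraMap R'' _) = ψ''.toRingHom)
    (hker : RingHom.ker (Ψ.comp Γ) = RingHom.ker (Φ.comp Γ)) : Ψ = Φ := by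
  have hΓψ : ∀ (X : R'' ⊗[R] S →+* Ω), X.comp (algebraMap R'' _) = ψ''.toRingHom →
      (X.comp Γ).comp (algebraMap R' W) = ψ' := fun X hX => RingHom.ext fun a => by
    show X (Γ (algebraMap R' W a)) = ψ' a
    rw [hΓ1, ← hψ a]
    exact RingHom.congr_fun hX _
  have hW : Ψ.comp Γ = Φ.comp Γ := RingHom.ext fun w => by
    obtain ⟨m, hm⟩ := pow_mem_tensor c ψ'' F hF hpow Ψ hΨ (Γ w)
    refine eq_of_ker_eq_of_pow_mem c _ _ ((hΓψ Ψ hΨ).trans (hΓψ Φ hΦ).symm) hker w m ?_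
    rw [hΓψ Ψ hΨ]
    exact hF' hm
  have hσ : onRight Ψ (fun r => (RingHom.congr_fun hΨ _).trans (ψ''.commutes r)) =
      onRight Φ (fun r => (RingHom.congr_fun hΦ _).trans (ψ''.commutes r)) := huniq _ _ fun t ht => by
    have h1 := RingHom.congr_fun hW (ι₂ ⟨t, ht⟩)
    simp only [RingHom.comp_apply, hΓ2] at h1
    exact h1
  refine RingHom.ext fun x => ?_
  induction x with
  | zero => rw [map_zero, map_zero]
  | add x y hx hy => rw [map_add, map_add, hx, hy]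
  | tmul a s =>
    have e2 : a ⊗ₜ[R] s = algebraMap R'' (R'' ⊗[R] S) a * ((1 : R'') ⊗ₜ[R] s) := by
      simp [Algebra.TensorProduct.algebraMap_apply]
    rw [e2, map_mul, map_mul, ← RingHom.comp_apply Ψ, hΨ, ← hΦ, RingHom.comp_apply]
    exact congrArg _ (AlgHom.congr_fun hσ s)

end Groth.L06.EtaleSplit
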