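import Mathlib.FieldTheory.PurelyInseparable.PerfectClosure
import Mathlib.FieldTheory.SeparableClosure
import Mathlib.FieldTheory.IsAlgClosed.Basic
import Mathlib.RingTheory.LocalRing.ResidueField.Ideal
import Mathlib.RingTheory.IntegralClosure.IsIntegralClosure.Basic
import Mathlib.RingTheory.Ideal.GoingUp

/-! Maps into algebraically closed fields: extension, and rigidity up to Frobenius. -/

set_option autoImplicit false
set_option linter.style.haveILetI false
set_option backward.isDefEq.respectTransparency false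

universe u v w

namespace Groth.L06.EtaleSplit

variable {Ω : Type u} [Field Ω]

/-- Two maps with the same kernel that agree on a subring agree on every element some Frobenius
power of which lies in the field generated by that subring. -/
theorem eq_of_ker_eq_of_pow_mem (c : ℕ) [ExpChar Ω c] {R : Type v} {A : Type w} [CommRing R]
    [CommRing A] [Algebra R A] (α β : A →+* Ω)
    (h : α.comp (algebraMap R A) = β.comp (algebraMap R A))
    (hker : RingHom.ker α = RingHom.ker β) (a : A) (n : ℕ)
    (hn : α a ^ c ^ n ∈ Subfield.closure (Set.range (α.comp (algebraMap R A)))) : α a = β a := by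
  rw [Subfield.mem_closure_iff] at hn
  obtain ⟨y, hy, z, hz, hyz⟩ := hn
  have hc : (Subring.closure (Set.range (α.comp (algebraMap R A)))) =
      (α.comp (algebraMap R A)).range := by
    refine le_antisymm (Subring.closure_le.mpr ?_) fun x hx => Subring.subset_closure ?_
    · rintro x ⟨r, rfl⟩; exact ⟨r, rfl⟩
    · obtain ⟨r, rfl⟩ := hx; exact ⟨r, rfl⟩
  rw [hc] at hy hz
  obtain ⟨u, rfl⟩ := hy
  obtain ⟨w, rfl⟩ := hz
  have hβ : ∀ r, α (algebraMap R A r) = β (algebraMap R A r) := fun r => RingHom.congr_fun h r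
  simp only [RingHom.comp_apply] at hyz
  by_cases hw : α (algebraMap R A w) = 0
  · rw [hw, div_zero] at hyz
    have h0 : α a = 0 := eq_zero_of_pow_eq_zero hyz.symm
    have hmem : a ∈ RingHom.ker α := h0
    rw [hker] at hmem
    rw [h0, hmem]
  · have hmem : a ^ c ^ n * algebraMap R A w - algebraMap R A u ∈ RingHom.ker α := by
      simp only [RingHom.mem_ker, map_sub, map_mul, map_pow, ← hyz, div_mul_cancel₀ _ hw, sub_self]
    rw [hker, RingHom.mem_ker, map_sub, map_mul, map_pow, sub_eq_zero, ← hβ, ← hβ,
      ← div_mul_cancel₀ (α (algebraMap R A u)) hw, hyz] at hmem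
    have : (α a - β a) ^ c ^ n = 0 := by
      rw [sub_pow_expChar_pow, mul_right_cancel₀ hw hmem, sub_self]
    exact sub_eq_zero.mp (eq_zero_of_pow_eq_zero this)

/-- Residue field extensions of integral ring extensions are algebraic. -/
theorem isAlgebraic_residueField {R : Type v} {S : Type w} [CommRing R] [CommRing S]
    [Algebra R S] [Algebra.IsIntegral R S] (p : Ideal R) [p.IsPrime] (q : Ideal S) [q.IsPrime]
    [Algebra p.ResidueField q.ResidueField] [IsScalarTower R p.ResidueField q.ResidueField] :
    Algebra.IsAlgebraic p.ResidueField q.ResidueField := by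
  have hi : ∀ s : S, IsIntegral p.ResidueField (algebraMap S q.ResidueField s) := fun s =>
    ((Algebra.IsIntegral.isIntegral (R := R) s).map
      (IsScalarTower.toAlgHom R S q.ResidueField)).tower_top
  refine ⟨fun x => ?_⟩
  obtain ⟨a, b, -, rfl⟩ := IsFractionRing.div_surjective (S ⧸ q) x
  obtain ⟨a, rfl⟩ := Ideal.Quotient.mk_surjective a
  obtain ⟨b, rfl⟩ := Ideal.Quotient.mk_surjective b
  rw [div_eq_mul_inv]
  exact ((hi a).mul (hi b).inv).isAlgebraic

/-- Extension of a map into an algebraically closed field along an integral extension, with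
prescribed kernel. -/
theorem exists_extend [IsAlgClosed Ω] {A : Type v} {B : Type w} [CommRing A] [CommRing B]
    [Algebra A B] [Algebra.IsIntegral A B] (ψ : A →+* Ω) (Q : Ideal B) [Q.IsPrime]
    (hQ : Q.comap (algebraMap A B) = RingHom.ker ψ) :
    ∃ φ : B →+* Ω, φ.comp (algebraMap A B) = ψ ∧ RingHom.ker φ = Q := by
  let P : Ideal A := RingHom.ker ψ
  haveI : P.IsPrime := RingHom.ker_isPrime ψ
  letI : Algebra P.ResidueField Q.ResidueField :=
    (Ideal.ResidueField.map P Q (algebraMap A B) hQ.symm).toAlgebra
  haveI : IsScalarTower A P.ResidueField Q.ResidueField := .of_algebraMap_eq fun a => by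
    rw [RingHom.algebraMap_toAlgebra, Ideal.ResidueField.map_algebraMap,
      ← IsScalarTower.algebraMap_apply A B Q.ResidueField]
  letI : Algebra P.ResidueField Ω := (Ideal.ResidueField.lift P ψ le_rfl (fun x hx =>
    isUnit_iff_ne_zero.mpr fun h => hx (RingHom.mem_ker.mpr h))).toAlgebra
  haveI := isAlgebraic_residueField (R := A) (S := B) P Q
  let l : Q.ResidueField →ₐ[P.ResidueField] Ω := IsAlgClosed.lift
  refine ⟨l.toRingHom.comp (algebraMap B Q.ResidueField), RingHom.ext fun a => ?_, ?_⟩
  · show l (algebraMap B Q.ResidueField (algebraMap A B a)) = ψ a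
    rw [← IsScalarTower.algebraMap_apply A B Q.ResidueField,
      IsScalarTower.algebraMap_apply A P.ResidueField Q.ResidueField, l.commutes,
      RingHom.algebraMap_toAlgebra, Ideal.ResidueField.lift_algebraMap]
  · rw [← RingHom.comap_ker, (RingHom.injective_iff_ker_eq_bot _).mp l.toRingHom.injective,
      ← RingHom.ker_eq_comap_bot, Ideal.ker_algebraMap_residueField]

/-- If a map to a field has, on all elements, some Frobenius power in the field generated by the
image of the base, then the residue field extension at its kernel is purely inseparable. -/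
theorem isPurelyInseparable_residueField (c : ℕ) [ExpChar Ω c] {A : Type v} {B : Type w}
    [CommRing A] [CommRing B] [Algebra A B] (ψ : A →+* Ω) (φ : B →+* Ω)
    (hφ : φ.comp (algebraMap A B) = ψ)
    (hpow : ∀ b, ∃ n, φ b ^ c ^ n ∈ Subfield.closure (Set.range ψ))
    (P : Ideal A) [P.IsPrime] (Q : Ideal B) [Q.IsPrime] (hP : RingHom.ker ψ = P)
    (hQ : RingHom.ker φ = Q) (h : P = Q.comap (algebraMap A B)) :
    letI := (Ideal.ResidueField.map P Q (algebraMap A B) h).toAlgebra
    IsPurelyInseparable P.ResidueField Q.ResidueField := by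
  letI := (Ideal.ResidueField.map P Q (algebraMap A B) h).toAlgebra
  let l : Q.ResidueField →+* Ω := Ideal.ResidueField.lift Q φ hQ.ge (fun x hx =>
    isUnit_iff_ne_zero.mpr fun h => hx (hQ ▸ RingHom.mem_ker.mpr h))
  let g : P.ResidueField →+* Ω := l.comp (algebraMap P.ResidueField Q.ResidueField)
  haveI : ExpChar P.ResidueField c := RingHom.expChar g g.injective c
  rw [isPurelyInseparable_iff_pow_mem P.ResidueField c]
  intro x
  obtain ⟨a, b, -, rfl⟩ := IsFractionRing.div_surjective (B ⧸ Q) x
  obtain ⟨a, rfl⟩ := Ideal.Quotient.mk_surjective a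
  obtain ⟨b, rfl⟩ := Ideal.Quotient.mk_surjective b
  have hl : ∀ y : B, l (algebraMap (B ⧸ Q) Q.ResidueField (Ideal.Quotient.mk Q y)) = φ y :=
    fun y => Ideal.ResidueField.lift_algebraMap Q φ _ _ y
  have hg : Set.range ψ ⊆ g.fieldRange := by
    rintro _ ⟨r, rfl⟩
    refine ⟨algebraMap A P.ResidueField r, ?_⟩
    show l (algebraMap P.ResidueField Q.ResidueField (algebraMap A P.ResidueField r)) = _
    rw [RingHom.algebraMap_toAlgebra, Ideal.ResidueField.map_algebraMap,
      Ideal.ResidueField.lift_algebraMap, ← hφ, RingHom.comp_apply]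
  have hle : Subfield.closure (Set.range ψ) ≤ g.fieldRange := Subfield.closure_le.mpr hg
  obtain ⟨m, hm⟩ := hpow a
  obtain ⟨n, hn⟩ := hpow b
  refine ⟨m + n, ?_⟩
  have key : l ((algebraMap (B ⧸ Q) Q.ResidueField (Ideal.Quotient.mk Q a) /
      algebraMap (B ⧸ Q) Q.ResidueField (Ideal.Quotient.mk Q b)) ^ c ^ (m + n)) ∈ g.fieldRange := by
    rw [map_pow, map_div₀, hl, hl, div_pow]
    refine div_mem ?_ ?_
    · rw [pow_add, pow_mul]; exact pow_mem (hle hm) _
    · rw [pow_add, mul_comm, pow_mul]; exact pow_mem (hle hn) _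
  obtain ⟨y, hy⟩ := key
  exact ⟨y, l.injective hy⟩

end Groth.L06.EtaleSplit
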