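import Groth.Agent.L06.EtaleSplit.Realize
import Mathlib.RingTheory.Etale.QuasiFinite
import Mathlib.RingTheory.Idempotents
import Mathlib.FieldTheory.IsAlgClosed.AlgebraicClosure

/-! Étale base change splitting an integral algebra at a prime. -/

set_option autoImplicit false
set_option linter.style.haveILetI false

universe u

open scoped TensorProduct

namespace Groth.L06.EtaleSplit

variable {R S : Type u} [CommRing R] [CommRing S] [Algebra R S]

theorem ker_ofId_residueField (p : Ideal R) [p.IsPrime] {Ω : Type u} [Field Ω]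
    [Algebra p.ResidueField Ω] [Algebra R Ω] [IsScalarTower R p.ResidueField Ω] :
    RingHom.ker (algebraMap R Ω) = p := by
  rw [IsScalarTower.algebraMap_eq R p.ResidueField Ω, ← RingHom.comap_ker,
    (RingHom.injective_iff_ker_eq_bot _).mp (algebraMap p.ResidueField Ω).injective,
    ← RingHom.ker_eq_comap_bot, Ideal.ker_algebraMap_residueField]

set_option maxHeartbeats 1600000 in
/-- Data pinning down all maps from `S` to an algebraic closure over `p`. -/
theorem exists_control [Algebra.IsIntegral R S] (p : Ideal R) [p.IsPrime]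
    (hfin : {q : PrimeSpectrum S | q.asIdeal.comap (algebraMap R S) = p}.Finite)
    (hsep : ∀ (q : PrimeSpectrum S) (hq : q.asIdeal.comap (algebraMap R S) = p),
      letI := (Ideal.ResidueField.map p q.asIdeal (algebraMap R S) hq.symm).toAlgebra
      Module.Finite p.ResidueField (separableClosure p.ResidueField q.asIdeal.ResidueField))
    (c : ℕ) [ExpChar p.ResidueField c] :
    ∃ (T : Subalgebra R S), Module.Finite R T ∧
      ∃ E : Finset (AlgebraicClosure p.ResidueField),
        (∀ α ∈ E, IsSeparable p.ResidueField α) ∧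
        ∀ F : Subfield (AlgebraicClosure p.ResidueField),
          Set.range (algebraMap R (AlgebraicClosure p.ResidueField)) ⊆ F →
          (E : Set (AlgebraicClosure p.ResidueField)) ⊆ F →
          (∀ σ : S →ₐ[R] AlgebraicClosure p.ResidueField, ∀ s, ∃ n, σ s ^ c ^ n ∈ F) ∧
          (∀ σ σ' : S →ₐ[R] AlgebraicClosure p.ResidueField,
            (∀ t ∈ T, σ t = σ' t) → σ = σ') := by
  classical
  let k := p.ResidueField
  let Ω := AlgebraicClosure k
  let Q := {q : PrimeSpectrum S // q.asIdeal.comap (algebraMap R S) = p}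
  haveI : Finite Q := hfin.to_subtype
  haveI := Fintype.ofFinite Q
  letI alg : ∀ q : Q, Algebra k q.1.asIdeal.ResidueField := fun q =>
    (Ideal.ResidueField.map p q.1.asIdeal (algebraMap R S) q.2.symm).toAlgebra
  haveI : ∀ q : Q, IsScalarTower R k q.1.asIdeal.ResidueField := fun q =>
    .of_algebraMap_eq fun r => by
      rw [RingHom.algebraMap_toAlgebra, Ideal.ResidueField.map_algebraMap,
        ← IsScalarTower.algebraMap_apply R S q.1.asIdeal.ResidueField]
  haveI : ∀ q : Q, Module.Finite k (separableClosure k q.1.asIdeal.ResidueField) := fun q =>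
    hsep q.1 q.2
  choose D hD hgen using fun q : Q => exists_separable_generators p q.1.asIdeal
  let sep : Q → Q → S := fun q q' =>
    if h : ∃ a, a ∈ q.1.asIdeal ∧ a ∉ q'.1.asIdeal then h.choose else 0
  let Dall : Finset S := Finset.univ.biUnion D ∪ Finset.univ.image fun x : Q × Q => sep x.1 x.2
  let T : Subalgebra R S := Algebra.adjoin R (Dall : Set S)
  have hT : ∀ a ∈ Dall, a ∈ T := fun a ha => Algebra.subset_adjoin ha
  let E : Finset Ω := Finset.univ.biUnion fun q : Q => (D q).biUnion fun d =>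
    ((minpoly k (algebraMap S q.1.asIdeal.ResidueField d)).aroots Ω).toFinset
  refine ⟨T, Module.Finite.of_fg
    (fg_adjoin_of_finite Dall.finite_toSet fun x _ => Algebra.IsIntegral.isIntegral x), E, ?_, ?_⟩
  · intro α hα
    simp only [E, Finset.mem_biUnion, Finset.mem_univ, true_and] at hα
    obtain ⟨q, d, hd, hroot⟩ := hα
    have hroot := (Polynomial.mem_aroots.mp (Multiset.mem_toFinset.mp hroot)).2
    exact (hD q d hd).of_dvd (minpoly.dvd k α hroot)
  intro F hRF hEF
  have hkF : Set.range (algebraMap k Ω) ⊆ F := by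
    rintro _ ⟨x, rfl⟩
    obtain ⟨a, b, -, rfl⟩ := IsFractionRing.div_surjective (R ⧸ p) x
    obtain ⟨a, rfl⟩ := Ideal.Quotient.mk_surjective a
    obtain ⟨b, rfl⟩ := Ideal.Quotient.mk_surjective b
    rw [map_div₀]
    have h : ∀ r : R, algebraMap k Ω (algebraMap R k r) ∈ F := fun r =>
      hRF ⟨r, IsScalarTower.algebraMap_apply R k Ω r⟩
    exact div_mem (h a) (h b)
  obtain ⟨qof, hqof⟩ : ∃ qof : (S →ₐ[R] Ω) → {q : PrimeSpectrum S // q.asIdeal.comap (algebraMap R S) = p},
      ∀ σ, (qof σ).1.asIdeal = RingHom.ker σ.toRingHom :=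
    ⟨fun σ => ⟨⟨RingHom.ker σ.toRingHom, RingHom.ker_isPrime _⟩, by
      show Ideal.comap (algebraMap R S) (RingHom.ker σ.toRingHom) = p
      rw [RingHom.comap_ker]
      exact (congrArg RingHom.ker σ.comp_algebraMap).trans (ker_ofId_residueField p)⟩, fun σ => rfl⟩
  let ι : ∀ σ : S →ₐ[R] Ω, (qof σ).1.asIdeal.ResidueField →ₐ[k] Ω := fun σ =>
    let l : (qof σ).1.asIdeal.ResidueField →+* Ω :=
      Ideal.ResidueField.lift (qof σ).1.asIdeal σ.toRingHom (hqof σ).le
        (fun x hx => isUnit_iff_ne_zero.mpr fun h => hx ((hqof σ).ge (RingHom.mem_ker.mpr h)))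
    { l with
      commutes' := fun x => by
        suffices h : l.comp (algebraMap k _) = algebraMap k Ω from RingHom.congr_fun h x
        refine Ideal.ResidueField.ringHom_ext (RingHom.ext fun r => ?_)
        show l (algebraMap k _ (algebraMap R k r)) = algebraMap k Ω (algebraMap R k r)
        rw [← IsScalarTower.algebraMap_apply R k (qof σ).1.asIdeal.ResidueField,
          ← IsScalarTower.algebraMap_apply R k Ω,
          IsScalarTower.algebraMap_apply R S (qof σ).1.asIdeal.ResidueField]
        exact (Ideal.ResidueField.lift_algebraMap _ _ _ _ _).trans (σ.commutes r) }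
  have hι : ∀ σ s, ι σ (algebraMap S _ s) = σ s := fun σ s =>
    Ideal.ResidueField.lift_algebraMap (qof σ).1.asIdeal σ.toRingHom (hqof σ).le
      (fun x hx => isUnit_iff_ne_zero.mpr fun h => hx ((hqof σ).ge (RingHom.mem_ker.mpr h))) s
  have step : ∀ (σ : S →ₐ[R] Ω) (G : Subfield Ω), Set.range (algebraMap k Ω) ⊆ G →
      (∀ d ∈ D (qof σ), σ d ∈ G) → ∀ s, ∃ n, σ s ^ c ^ n ∈ G := by
    intro σ G hkG hG s
    obtain ⟨n, hn⟩ := hgen (qof σ) c s
    refine ⟨n, ?_⟩
    rw [← hι σ s, ← map_pow]
    have hle : (IntermediateField.adjoin k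
        (algebraMap S (qof σ).1.asIdeal.ResidueField '' (D (qof σ) : Set S))).toSubfield ≤
        G.comap (ι σ).toRingHom := by
      rw [IntermediateField.adjoin_toSubfield, Subfield.closure_le]
      rintro x (⟨a, rfl⟩ | ⟨d, hd, rfl⟩)
      · exact (congrArg (fun y => y ∈ G) ((ι σ).commutes a)).mpr (hkG ⟨a, rfl⟩)
      · exact (congrArg (fun y => y ∈ G) (hι σ d)).mpr (hG d hd)
    exact hle hn
  refine ⟨fun σ => step σ F hkF fun d hd => hEF ?_, fun σ σ' hσ => ?_⟩
  · refine Finset.mem_biUnion.mpr ⟨qof σ, Finset.mem_univ _, Finset.mem_biUnion.mpr ⟨d, hd,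
      Multiset.mem_toFinset.mpr (Polynomial.mem_aroots.mpr
        ⟨minpoly.ne_zero (hD _ d hd).isIntegral, ?_⟩)⟩⟩
    rw [← hι σ d, Polynomial.aeval_algHom_apply, minpoly.aeval, map_zero]
  · have hq : qof σ = qof σ' := by
      have key : ∀ τ τ' : S →ₐ[R] Ω, (∀ t ∈ T, τ t = τ' t) →
          (qof τ).1.asIdeal ≤ (qof τ').1.asIdeal := by
        intro τ τ' hτ a ha
        by_contra ha'
        have hex : ∃ a, a ∈ (qof τ).1.asIdeal ∧ a ∉ (qof τ').1.asIdeal := ⟨a, ha, ha'⟩
        have hmem : sep (qof τ) (qof τ') ∈ T :=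
          hT _ (Finset.mem_union_right _ (Finset.mem_image.mpr ⟨(qof τ, qof τ'), Finset.mem_univ _, rfl⟩))
        have hs : sep (qof τ) (qof τ') = hex.choose := dif_pos hex
        rw [hs] at hmem
        refine hex.choose_spec.2 ((hqof τ').ge (RingHom.mem_ker.mpr ?_))
        show τ' hex.choose = 0
        rw [← hτ _ hmem]
        exact RingHom.mem_ker.mp ((hqof τ).le hex.choose_spec.1)
      exact Subtype.ext (PrimeSpectrum.ext (le_antisymm (key σ σ' hσ)
        (key σ' σ fun t ht => (hσ t ht).symm)))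
    have hker : RingHom.ker σ.toRingHom = RingHom.ker σ'.toRingHom := by
      rw [← hqof σ, ← hqof σ', hq]
    haveI : ExpChar Ω c := expChar_of_injective_ringHom (algebraMap k Ω).injective c
    refine AlgHom.ext fun s => ?_
    let G : Subfield Ω := Subfield.closure (Set.range (σ.toRingHom.comp (algebraMap T S)))
    have hRG : ∀ r : R, algebraMap R Ω r ∈ G := fun r =>
      Subfield.subset_closure ⟨⟨algebraMap R S r, T.algebraMap_mem r⟩, σ.commutes r⟩
    obtain ⟨n, hn⟩ := step σ G (by
      rintro _ ⟨x, rfl⟩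
      obtain ⟨a, b, -, rfl⟩ := IsFractionRing.div_surjective (R ⧸ p) x
      obtain ⟨a, rfl⟩ := Ideal.Quotient.mk_surjective a
      obtain ⟨b, rfl⟩ := Ideal.Quotient.mk_surjective b
      rw [map_div₀]
      have h : ∀ r : R, algebraMap k Ω (algebraMap R k r) ∈ G := fun r => by
        rw [← IsScalarTower.algebraMap_apply R k Ω]; exact hRG r
      exact div_mem (h a) (h b))
      (fun d hd => Subfield.subset_closure ⟨⟨d, hT d (Finset.mem_union_left _
        (Finset.mem_biUnion.mpr ⟨_, Finset.mem_univ _, hd⟩))⟩, rfl⟩) s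
    exact eq_of_ker_eq_of_pow_mem c σ.toRingHom σ'.toRingHom
      (RingHom.ext fun t : T => hσ t t.2) hker s n hn

end Groth.L06.EtaleSplit
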