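import Groth.Agent.L06.EtaleSplit.Fields
import Mathlib.RingTheory.Etale.StandardEtale
import Mathlib.RingTheory.TensorProduct.Maps
import Mathlib.RingTheory.Localization.Away.Basic
import Mathlib.Algebra.Polynomial.Lifts

/-! Étale algebras realising finitely many separable elements over a residue field. -/

set_option autoImplicit false
set_option linter.style.haveILetI false
set_option backward.isDefEq.respectTransparency false

universe u v

open Polynomial
open scoped TensorProduct

namespace Groth.L06.EtaleSplit

variable {R : Type u} [CommRing R] (p : Ideal R) [p.IsPrime] {Ω : Type u} [Field Ω]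
  [Algebra p.ResidueField Ω] [Algebra R Ω] [IsScalarTower R p.ResidueField Ω]

theorem exists_etale_realize_one (α : Ω) (hα : IsSeparable p.ResidueField α) :
    ∃ (R₀ : Type u) (_ : CommRing R₀) (_ : Algebra R R₀), Algebra.Etale R R₀ ∧
      ∃ ψ : R₀ →ₐ[R] Ω, α ∈ Set.range ψ := by
  classical
  let h := minpoly p.ResidueField α
  have hm : h.Monic := minpoly.monic hα.isIntegral
  obtain ⟨⟨d, hd⟩, hint⟩ := IsLocalization.exist_integer_multiples (nonZeroDivisors (R ⧸ p))
    h.support h.coeff
  obtain ⟨d, rfl⟩ := Ideal.Quotient.mk_surjective d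
  have hdp : d ∉ p := fun hdp => nonZeroDivisors.ne_zero hd (Ideal.Quotient.eq_zero_iff_mem.mpr hdp)
  have hd0 : algebraMap R p.ResidueField d ≠ 0 := fun h0 =>
    hdp (Ideal.algebraMap_residueField_eq_zero.mp h0)
  let g₁ : Localization.Away d →ₐ[R] p.ResidueField :=
    IsLocalization.Away.liftAlgHom d (f := Algebra.ofId R p.ResidueField) (isUnit_iff_ne_zero.mpr hd0)
  have hlifts : h ∈ Polynomial.lifts g₁.toRingHom := by
    rw [Polynomial.lifts_iff_coeff_lifts]
    intro i
    by_cases hi : i ∈ h.support
    · obtain ⟨b, hb⟩ := hint i hi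
      obtain ⟨b, rfl⟩ := Ideal.Quotient.mk_surjective b
      refine ⟨algebraMap R _ b * IsLocalization.Away.invSelf d, ?_⟩
      have e1 : algebraMap R p.ResidueField b = algebraMap R p.ResidueField d * h.coeff i := by
        rw [Algebra.smul_def] at hb
        exact hb
      have e2 : g₁ (algebraMap R _ d) * g₁ (IsLocalization.Away.invSelf d) = 1 := by
        rw [← map_mul, IsLocalization.Away.mul_invSelf, map_one]
      rw [g₁.commutes] at e2
      show g₁ _ = _
      rw [map_mul, g₁.commutes, e1, mul_comm (algebraMap R p.ResidueField d), mul_assoc, e2,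
        mul_one]
    · exact ⟨0, by rw [Polynomial.notMem_support_iff.mp hi, map_zero]⟩
  obtain ⟨g, hg, -, hgm⟩ := Polynomial.lifts_and_natDegree_eq_and_monic hlifts hm
  let P : StandardEtalePair (Localization.Away d) :=
    ⟨g, hgm, derivative g, 1, 0, 1, by ring⟩
  letI : Algebra R P.Ring :=
    ((algebraMap (Localization.Away d) P.Ring).comp (algebraMap R (Localization.Away d))).toAlgebra
  haveI : IsScalarTower R (Localization.Away d) P.Ring := .of_algebraMap_eq fun _ => rfl
  haveI : Algebra.Etale R (Localization.Away d) := Algebra.Etale.of_isLocalizationAway d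
  haveI : Algebra.Etale R P.Ring := Algebra.Etale.comp R (Localization.Away d) P.Ring
  letI : Algebra (Localization.Away d) Ω := ((algebraMap p.ResidueField Ω).comp g₁.toRingHom).toAlgebra
  haveI : IsScalarTower R (Localization.Away d) Ω := .of_algebraMap_eq fun r => by
    rw [RingHom.algebraMap_toAlgebra, RingHom.comp_apply, IsScalarTower.algebraMap_apply R p.ResidueField Ω]
    exact congrArg _ (g₁.commutes r).symm
  have haeval : ∀ q : (Localization.Away d)[X],
      aeval α q = aeval α (q.map g₁.toRingHom) := fun q => by
    rw [aeval_def, aeval_def, eval₂_map, RingHom.algebraMap_toAlgebra]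
  have hmap : P.HasMap α := by
    refine ⟨?_, isUnit_iff_ne_zero.mpr ?_⟩
    · show aeval α g = 0
      rw [haeval, hg]; exact minpoly.aeval _ _
    · show aeval α (derivative g) ≠ 0
      rw [haeval, ← derivative_map, hg]
      exact hα.aeval_derivative_ne_zero (minpoly.aeval _ _)
  exact ⟨P.Ring, inferInstance, inferInstance, inferInstance,
    (P.lift α hmap).restrictScalars R, P.X, P.lift_X α hmap⟩

theorem exists_etale_realize (E : Finset Ω) (hE : ∀ α ∈ E, IsSeparable p.ResidueField α) :
    ∃ (R₀ : Type u) (_ : CommRing R₀) (_ : Algebra R R₀), Algebra.Etale R R₀ ∧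
      ∃ ψ : R₀ →ₐ[R] Ω, (E : Set Ω) ⊆ Set.range ψ := by
  classical
  induction E using Finset.induction with
  | empty => exact ⟨R, inferInstance, inferInstance, inferInstance, Algebra.ofId R Ω, by simp⟩
  | @insert α E hα ih =>
    obtain ⟨A, _, _, hA, ψA, hψA⟩ := ih fun β hβ => hE β (Finset.mem_insert_of_mem hβ)
    obtain ⟨B, _, _, hB, ψB, b, hb⟩ :=
      exists_etale_realize_one p α (hE α (Finset.mem_insert_self _ _))
    haveI := hA; haveI := hB
    haveI : Algebra.Etale A (A ⊗[R] B) := inferInstance
    refine ⟨A ⊗[R] B, inferInstance, inferInstance, Algebra.Etale.comp R A (A ⊗[R] B),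
      Algebra.TensorProduct.productMap ψA ψB, fun x hx => ?_⟩
    rcases Finset.mem_insert.mp (Finset.mem_coe.mp hx) with rfl | hx
    · exact ⟨1 ⊗ₜ b, by simp [hb]⟩
    · obtain ⟨a, rfl⟩ := hψA hx
      exact ⟨a ⊗ₜ 1, by simp⟩

/-- Finitely many elements whose residues are separable and generate, up to purely inseparable
extension, a residue field with finite separable closure. -/
theorem exists_separable_generators {S : Type u} [CommRing S] [Algebra R S] [Algebra.IsIntegral R S]
    (q : Ideal S) [q.IsPrime] [Algebra p.ResidueField q.ResidueField]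
    [IsScalarTower R p.ResidueField q.ResidueField]
    [Module.Finite p.ResidueField (separableClosure p.ResidueField q.ResidueField)] :
    ∃ D : Finset S, (∀ d ∈ D, IsSeparable p.ResidueField (algebraMap S q.ResidueField d)) ∧
      ∀ (c : ℕ) [ExpChar p.ResidueField c] (s : S), ∃ n,
        algebraMap S q.ResidueField s ^ c ^ n ∈
          IntermediateField.adjoin p.ResidueField (algebraMap S q.ResidueField '' (D : Set S)) := by
  classical
  haveI := isAlgebraic_residueField (R := R) (S := S) p q
  let K := q.ResidueField
  let k := p.ResidueField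
  have htow : ∀ r, algebraMap k K (algebraMap R k r) = algebraMap S K (algebraMap R S r) := fun r => by
    rw [← IsScalarTower.algebraMap_apply R k K, ← IsScalarTower.algebraMap_apply R S K]
  -- scaled elements
  let A : Subalgebra k K :=
    { carrier := {y | ∃ (s : S) (r : R), r ∉ p ∧ algebraMap R K r * y = algebraMap S K s}
      mul_mem' := by
        rintro y y' ⟨s, r, hr, h⟩ ⟨s', r', hr', h'⟩
        refine ⟨s * s', r * r', fun h => (Ideal.IsPrime.mem_or_mem inferInstance h).elim hr hr', ?_⟩
        simp only [map_mul, ← h, ← h']; ring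
      add_mem' := by
        rintro y y' ⟨s, r, hr, h⟩ ⟨s', r', hr', h'⟩
        refine ⟨algebraMap R S r' * s + algebraMap R S r * s', r * r',
          fun h => (Ideal.IsPrime.mem_or_mem inferInstance h).elim hr hr', ?_⟩
        simp only [map_mul, map_add, ← h, ← h', ← IsScalarTower.algebraMap_apply R S K]; ring
      algebraMap_mem' := fun x => by
        obtain ⟨a, b, hb, rfl⟩ := IsFractionRing.div_surjective (R ⧸ p) x
        obtain ⟨a, rfl⟩ := Ideal.Quotient.mk_surjective a
        obtain ⟨b, rfl⟩ := Ideal.Quotient.mk_surjective b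
        have hbp : b ∉ p := fun h => nonZeroDivisors.ne_zero hb (Ideal.Quotient.eq_zero_iff_mem.mpr h)
        refine ⟨algebraMap R S a, b, hbp, ?_⟩
        rw [← htow, IsScalarTower.algebraMap_apply R k K, ← map_mul]
        congr 1
        exact mul_div_cancel₀ (algebraMap R k a)
          (fun h => hbp (Ideal.algebraMap_residueField_eq_zero.mp h)) }
  have hA : ∀ y : K, y ∈ A := fun y => by
    obtain ⟨a, b, -, rfl⟩ := IsFractionRing.div_surjective (S ⧸ q) y
    obtain ⟨a, rfl⟩ := Ideal.Quotient.mk_surjective a
    obtain ⟨b, rfl⟩ := Ideal.Quotient.mk_surjective b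
    have himg : ∀ s : S, algebraMap S K s ∈ A := fun s =>
      ⟨s, 1, fun h => (inferInstance : p.IsPrime).ne_top (p.eq_top_iff_one.mpr h), by simp⟩
    rw [div_eq_mul_inv]
    exact A.mul_mem (himg a) (A.inv_mem_of_algebraic (x := ⟨_, himg b⟩)
      (Algebra.IsAlgebraic.isAlgebraic _))
  let b := Module.finBasis k (separableClosure k K)
  choose s r hr hsr using fun i => hA (b i : K)
  have hsep : ∀ i, algebraMap S K (s i) ∈ separableClosure k K := fun i => by
    rw [← hsr i, IsScalarTower.algebraMap_apply R k K]
    exact mul_mem ((separableClosure k K).algebraMap_mem _) (b i).2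
  refine ⟨Finset.univ.image s, fun d hd => ?_, fun c _ x => ?_⟩
  · obtain ⟨i, -, rfl⟩ := Finset.mem_image.mp hd
    exact mem_separableClosure_iff.mp (hsep i)
  · haveI : ExpChar (separableClosure k K) c :=
      expChar_of_injective_ringHom (algebraMap k (separableClosure k K)).injective c
    obtain ⟨n, y, hy⟩ := IsPurelyInseparable.pow_mem (separableClosure k K) c (algebraMap S K x)
    refine ⟨n, ?_⟩
    rw [← hy]
    let M := IntermediateField.adjoin k (algebraMap S K '' ((Finset.univ.image s : Finset S) : Set S))
    have hb : ∀ i, (b i : K) ∈ M := fun i => by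
      have h0 : algebraMap R K (r i) ≠ 0 := by
        rw [IsScalarTower.algebraMap_apply R k K]
        exact fun h => hr i (Ideal.algebraMap_residueField_eq_zero.mp
          ((map_eq_zero (algebraMap k K)).mp h))
      rw [show (b i : K) = algebraMap S K (s i) / algebraMap R K (r i) from
        eq_div_of_mul_eq h0 (by rw [mul_comm, hsr i])]
      refine div_mem (IntermediateField.subset_adjoin _ _ ⟨_, by simp, rfl⟩) ?_
      rw [IsScalarTower.algebraMap_apply R k K]
      exact M.algebraMap_mem _
    show (y : K) ∈ M
    rw [← b.sum_repr y]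
    simp only [IntermediateField.coe_sum, IntermediateField.coe_smul]
    exact sum_mem fun i _ => M.smul_mem (hb i)

end Groth.L06.EtaleSplit
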