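import Groth.Agent.L06.EtaleSplit.Main

/-! Étale base change splitting an integral algebra at a prime: assembly. -/

set_option autoImplicit false
set_option linter.style.haveILetI false

universe u

open scoped TensorProduct

namespace Groth.L06.EtaleSplit

variable {R R₀ R' T : Type u} [CommRing R] [CommRing R₀] [CommRing R'] [CommRing T]
  [Algebra R R₀] [Algebra R₀ R'] [Algebra R R'] [IsScalarTower R R₀ R'] [Algebra R T]

theorem ringHom_ext_iterated {B : Type u} [CommRing B] (α β : R' ⊗[R₀] (R₀ ⊗[R] T) →+* B)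
    (h1 : ∀ a : R', α (algebraMap R' _ a) = β (algebraMap R' _ a))
    (h2 : ∀ t : T, α (1 ⊗ₜ (1 ⊗ₜ t)) = β (1 ⊗ₜ (1 ⊗ₜ t))) : α = β := by
  refine RingHom.ext fun w => ?_
  induction w with
  | zero => rw [map_zero, map_zero]
  | add x y hx hy => rw [map_add, map_add, hx, hy]
  | tmul a z =>
    induction z with
    | zero => rw [TensorProduct.tmul_zero, map_zero, map_zero]
    | add x y hx hy => rw [TensorProduct.tmul_add, map_add, map_add, hx, hy]
    | tmul b t =>
      have e : (a ⊗ₜ[R₀] (b ⊗ₜ[R] t)) =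
          algebraMap R' (R' ⊗[R₀] (R₀ ⊗[R] T)) (b • a) * (1 ⊗ₜ[R₀] (1 ⊗ₜ[R] t)) := by
        rw [Algebra.TensorProduct.algebraMap_apply, Algebra.TensorProduct.tmul_mul_tmul, mul_one,
          one_mul]
        show a ⊗ₜ[R₀] (b ⊗ₜ[R] t) = (b • a) ⊗ₜ[R₀] ((1 : R₀) ⊗ₜ[R] t)
        rw [TensorProduct.smul_tmul, TensorProduct.smul_tmul', smul_eq_mul, mul_one]
      rw [e, map_mul, map_mul, h1, h2]

theorem pow_mem_of_generators {U Ω : Type u} [CommRing U] [Field Ω] (c : ℕ) [ExpChar Ω c]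
    (F : Subfield Ω) (Φ : U →+* Ω) (G : Set U) (hG : Subring.closure G = ⊤)
    (h : ∀ g ∈ G, ∃ n, Φ g ^ c ^ n ∈ F) : ∀ x : U, ∃ n, Φ x ^ c ^ n ∈ F := by
  intro x
  have hx : x ∈ Subring.closure G := by rw [hG]; exact Subring.mem_top x
  induction hx using Subring.closure_induction with
  | mem y hy => exact h y hy
  | zero => exact ⟨0, by simp⟩
  | one => exact ⟨0, by simp⟩
  | add a b _ _ ha hb =>
    obtain ⟨m, hm⟩ := ha
    obtain ⟨n, hn⟩ := hb
    refine ⟨m + n, ?_⟩
    rw [map_add, add_pow_expChar_pow]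
    refine add_mem ?_ ?_
    · rw [pow_add, pow_mul]; exact pow_mem hm _
    · rw [pow_add, mul_comm, pow_mul]; exact pow_mem hn _
  | neg a _ ha =>
    obtain ⟨m, hm⟩ := ha
    refine ⟨m, ?_⟩
    rw [map_neg, neg_pow]
    exact mul_mem (pow_mem (neg_mem (one_mem F)) _) hm
  | mul a b _ _ ha hb =>
    obtain ⟨m, hm⟩ := ha
    obtain ⟨n, hn⟩ := hb
    refine ⟨m + n, ?_⟩
    rw [map_mul, mul_pow]
    refine mul_mem ?_ ?_
    · rw [pow_add, pow_mul]; exact pow_mem hm _
    · rw [pow_add, mul_comm, pow_mul]; exact pow_mem hn _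

theorem tensor_generators (A S : Type u) [CommRing A] [CommRing S] [Algebra R A] [Algebra R S] :
    Subring.closure (Set.range (algebraMap A (A ⊗[R] S)) ∪
      Set.range fun s : S => (1 : A) ⊗ₜ[R] s) = ⊤ := by
  refine eq_top_iff.mpr fun x _ => ?_
  rename_i hmem
  clear hmem
  induction x with
  | zero => exact zero_mem _
  | add x y hx hy => exact add_mem hx hy
  | tmul a s =>
    have e : a ⊗ₜ[R] s = algebraMap A (A ⊗[R] S) a * ((1 : A) ⊗ₜ[R] s) := by
      simp [Algebra.TensorProduct.algebraMap_apply]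
    rw [e]
    exact mul_mem (Subring.subset_closure (Or.inl ⟨a, rfl⟩))
      (Subring.subset_closure (Or.inr ⟨s, rfl⟩))

end Groth.L06.EtaleSplit
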